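import Mathlib.Algebra.Homology.DerivedCategory.TStructure
import Mathlib.Algebra.Homology.DerivedCategory.HomologySequence
import Mathlib.Algebra.Homology.DerivedCategory.FullyFaithful
import Mathlib.CategoryTheory.Triangulated.TStructure.Induced
import Mathlib.CategoryTheory.Abelian.Exact

/-!
# Dévissage in the bounded derived category
-/

set_option autoImplicit false
universe w v u
open CategoryTheory CategoryTheory.Limits CategoryTheory.Pretriangulated DerivedCategory

namespace Groth.Agent.DBSib.Basic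

variable (A : Type u) [Category.{v} A] [Abelian A] [HasDerivedCategory.{w} A]

/-- `D^b(A)`. -/
abbrev DB : Type max u v := DerivedCategory.Bounded A

/-- An object of `A` placed in degree `n`, in `D^b(A)`. -/
noncomputable def sB (n : ℤ) : A ⥤ DB A :=
  TStructure.t.bounded.lift (singleFunctor A n)
    (fun _ => ⟨⟨n, inferInstance⟩, ⟨n, inferInstance⟩⟩)

/-- Cohomology on `D^b(A)`. -/
noncomputable def H (n : ℤ) : DB A ⥤ A := DerivedCategory.Bounded.ι ⋙ homologyFunctor A n

variable {A}

instance (n : ℤ) : (H A n).Additive := inferInstanceAs ((DerivedCategory.Bounded.ι ⋙ homologyFunctor A n).Additive)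

instance (n : ℤ) : (sB A n).Additive :=
  { map_add := fun {_ _ f g} => ObjectProperty.hom_ext _ ((singleFunctor A n).map_add) }

instance (n : ℤ) : (sB A n).Full where
  map_surjective f := by
    obtain ⟨g, hg⟩ := (singleFunctor A n).map_surjective f.hom
    exact ⟨g, ObjectProperty.hom_ext _ hg⟩

instance (n : ℤ) : (sB A n).Faithful where
  map_injective h := (singleFunctor A n).map_injective (congrArg (fun t => t.hom) h)

/-- `K` has cohomology in degrees `≤ b` only. -/
abbrev LE (K : DB A) (b : ℤ) : Prop := K.obj.IsLE b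

/-- `K` has cohomology in degrees `≥ a` only. -/
abbrev GE (K : DB A) (a : ℤ) : Prop := K.obj.IsGE a

theorem sB_le (n : ℤ) (X : A) : LE ((sB A n).obj X) n :=
  inferInstanceAs (((singleFunctor A n).obj X).IsLE n)

theorem sB_ge (n : ℤ) (X : A) : GE ((sB A n).obj X) n :=
  inferInstanceAs (((singleFunctor A n).obj X).IsGE n)

theorem exists_amplitude (K : DB A) : ∃ a b : ℤ, GE K a ∧ LE K b := by
  obtain ⟨⟨a, ha⟩, ⟨b, hb⟩⟩ := K.property
  exact ⟨a, b, ha, hb⟩

theorem hom_eq_zero {K L : DB A} {a b : ℤ} (hK : LE K a) (hL : GE L b) (h : a < b) (f : K ⟶ L) :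
    f = 0 := by
  apply ObjectProperty.hom_ext
  exact TStructure.t.zero f.hom a b h

theorem LE.mono {K : DB A} {a b : ℤ} (hK : LE K a) (h : a ≤ b) : LE K b :=
  TStructure.t.isLE_of_le K.obj a b h

theorem GE.mono {K : DB A} {a b : ℤ} (hK : GE K a) (h : b ≤ a) : GE K b :=
  TStructure.t.isGE_of_ge K.obj b a h

theorem LE.of_iso {K L : DB A} {a : ℤ} (hK : LE K a) (e : K ≅ L) : LE L a :=
  haveI : TStructure.t.IsLE (TStructure.t.bounded.ι.obj K) a := hK
  TStructure.t.isLE_of_iso ((TStructure.t.bounded.ι).mapIso e) a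

theorem GE.of_iso {K L : DB A} {a : ℤ} (hK : GE K a) (e : K ≅ L) : GE L a :=
  haveI : TStructure.t.IsGE (TStructure.t.bounded.ι.obj K) a := hK
  TStructure.t.isGE_of_iso ((TStructure.t.bounded.ι).mapIso e) a

/-- An object concentrated in degree `n`. -/
theorem exists_iso_sB {K : DB A} {n : ℤ} (h₁ : GE K n) (h₂ : LE K n) :
    ∃ X : A, Nonempty (K ≅ (sB A n).obj X) := by
  obtain ⟨X, ⟨e⟩⟩ := exists_iso_singleFunctor_obj_of_isGE_of_isLE K.obj n
  exact ⟨X, ⟨ObjectProperty.isoMk _ e⟩⟩

/-- The homology sequence of a distinguished triangle of `D^b(A)`. -/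
theorem H_exact (T : Triangle (DB A)) (hT : T ∈ distTriang (DB A)) (n : ℤ) :
    (ShortComplex.mk ((H A n).map T.mor₁) ((H A n).map T.mor₂)
      (by rw [← Functor.map_comp, comp_distTriang_mor_zero₁₂ _ hT, Functor.map_zero])).Exact := by
  exact (homologyFunctor A n).map_distinguished_exact _
    ((DerivedCategory.Bounded.ι (C := A)).map_distinguished T hT)

/-- The shift of a single object. -/
noncomputable def shiftIso (k n n' : ℤ) (h : k + n = n') : sB A n' ⋙ shiftFunctor (DB A) k ≅ sB A n :=
  NatIso.ofComponents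
    (fun X => ObjectProperty.isoMk _ (((DerivedCategory.Bounded.ι (C := A)).commShiftIso k).app
      ((sB A n').obj X) ≪≫ ((singleFunctors A).shiftIso k n n' h).app X))
    (fun {X Y} f => ObjectProperty.hom_ext _ (by
      have h1 := ((DerivedCategory.Bounded.ι (C := A)).commShiftIso k).hom.naturality ((sB A n').map f)
      have h2 := ((singleFunctors A).shiftIso k n n' h).hom.naturality f
      show _ ≫ (_ ≫ _) = (_ ≫ _) ≫ _
      erw [reassoc_of% h1]
      erw [h2]
      simp
      rfl))

theorem isZero_H_of_le {K : DB A} {b : ℤ} (hK : LE K b) {i : ℤ} (hi : b < i) :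
    IsZero ((H A i).obj K) :=
  haveI := hK
  DerivedCategory.isZero_of_isLE K.obj b i hi

theorem isZero_H_of_ge {K : DB A} {a : ℤ} (hK : GE K a) {i : ℤ} (hi : i < a) :
    IsZero ((H A i).obj K) :=
  haveI := hK
  DerivedCategory.isZero_of_isGE K.obj a i hi

theorem le_of_isZero {K : DB A} {b : ℤ} (h : ∀ i, b < i → IsZero ((H A i).obj K)) : LE K b :=
  (DerivedCategory.isLE_iff K.obj b).mpr h

theorem ge_of_isZero {K : DB A} {a : ℤ} (h : ∀ i, i < a → IsZero ((H A i).obj K)) : GE K a :=
  (DerivedCategory.isGE_iff K.obj a).mpr h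

section Chain

theorem epi_homologyMap_of_epi {K L : CochainComplex A ℤ} (f : K ⟶ L) (b : ℤ)
    [K.IsStrictlyLE b] [L.IsStrictlyLE b] [Epi (f.f b)] : Epi (HomologicalComplex.homologyMap f b) := by
  have hK : K.d b (b + 1) = 0 := (K.isZero_of_isStrictlyLE b (b + 1) (by omega)).eq_of_tgt _ _
  have hL : L.d b (b + 1) = 0 := (L.isZero_of_isStrictlyLE b (b + 1) (by omega)).eq_of_tgt _ _
  have := K.isIso_iCycles b (b + 1) (by simp) hK
  have := L.isIso_iCycles b (b + 1) (by simp) hL
  have h1 : HomologicalComplex.cyclesMap f b = K.iCycles b ≫ f.f b ≫ inv (L.iCycles b) := by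
    simp [← cancel_mono (L.iCycles b)]
  have : Epi (HomologicalComplex.cyclesMap f b) := by rw [h1]; infer_instance
  exact epi_of_epi_fac (HomologicalComplex.homologyπ_naturality f b)

theorem epi_f_of_epi_homologyMap {K : CochainComplex A ℤ} {X : A} (b : ℤ) [K.IsStrictlyLE b]
    (f : K ⟶ (HomologicalComplex.single A (ComplexShape.up ℤ) b).obj X)
    [Epi (HomologicalComplex.homologyMap f b)] : Epi (f.f b) := by
  have hK : K.d b (b + 1) = 0 := (K.isZero_of_isStrictlyLE b (b + 1) (by omega)).eq_of_tgt _ _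
  have := K.isIso_iCycles b (b + 1) (by simp) hK
  have hS : ((HomologicalComplex.single A (ComplexShape.up ℤ) b).obj X).d b (b + 1) = 0 := by simp
  have hS' : ((HomologicalComplex.single A (ComplexShape.up ℤ) b).obj X).d (b - 1) b = 0 := by simp
  have := ((HomologicalComplex.single A (ComplexShape.up ℤ) b).obj X).isIso_iCycles b (b + 1) (by simp) hS
  have := ((HomologicalComplex.single A (ComplexShape.up ℤ) b).obj X).isIso_homologyπ (b - 1) b (by simp) hS'
  have h1 : f.f b = inv (K.iCycles b) ≫ K.homologyπ b ≫ HomologicalComplex.homologyMap f b ≫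
      inv (((HomologicalComplex.single A (ComplexShape.up ℤ) b).obj X).homologyπ b) ≫ ((HomologicalComplex.single A (ComplexShape.up ℤ) b).obj X).iCycles b := by
    simp
  rw [h1]
  infer_instance

theorem eq_zero_of_homologyMap_eq_zero {K : CochainComplex A ℤ} {X : A} (b : ℤ) [K.IsStrictlyLE b]
    (f : K ⟶ (HomologicalComplex.single A (ComplexShape.up ℤ) b).obj X)
    (hf : HomologicalComplex.homologyMap f b = 0) : f = 0 := by
  have hK : K.d b (b + 1) = 0 := (K.isZero_of_isStrictlyLE b (b + 1) (by omega)).eq_of_tgt _ _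
  have := K.isIso_iCycles b (b + 1) (by simp) hK
  have hS' : ((HomologicalComplex.single A (ComplexShape.up ℤ) b).obj X).d (b - 1) b = 0 := by simp
  have := ((HomologicalComplex.single A (ComplexShape.up ℤ) b).obj X).isIso_homologyπ (b - 1) b (by simp) hS'
  apply HomologicalComplex.to_single_hom_ext
  rw [← cancel_epi (K.iCycles b)]
  have h1 : HomologicalComplex.cyclesMap f b = 0 := by
    rw [← cancel_mono (((HomologicalComplex.single A (ComplexShape.up ℤ) b).obj X).homologyπ b), ← HomologicalComplex.homologyπ_naturality f b, hf]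
    simp
  rw [← HomologicalComplex.cyclesMap_i, h1]
  simp

theorem Q_homology_eq {K L : CochainComplex A ℤ} (f : K ⟶ L) (n : ℤ) :
    (homologyFunctor A n).map (Q.map f) = (homologyFunctorFactors A n).hom.app K ≫
      HomologicalComplex.homologyMap f n ≫ (homologyFunctorFactors A n).inv.app L := by
  have h := (homologyFunctorFactors A n).hom.naturality f
  exact ((Iso.eq_comp_inv ((homologyFunctorFactors A n).app L)).mpr h).trans (Category.assoc _ _ _)

end Chain

/-- Every object `≤ b` receives a map from a single object in degree `b` surjective on `H^b`. -/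
theorem exists_epi_H {K : DB A} {b : ℤ} (hK : LE K b) :
    ∃ (E : A) (g : (sB A b).obj E ⟶ K), Epi ((H A b).map g) := by
  obtain ⟨L, hL, ⟨e⟩⟩ := exists_iso_Q_obj_of_isLE K.obj b (hX := hK)
  let φ : (HomologicalComplex.single A (ComplexShape.up ℤ) b).obj (L.X b) ⟶ L :=
    HomologicalComplex.mkHomFromSingle (𝟙 (L.X b)) fun k hk =>
      (L.isZero_of_isStrictlyLE b k (by simp at hk; omega)).eq_of_tgt _ _
  have : Epi (φ.f b) := by
    simp only [φ, HomologicalComplex.mkHomFromSingle_f]
    infer_instance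
  have := epi_homologyMap_of_epi φ b
  refine ⟨L.X b, ObjectProperty.homMk
    ((singleFunctorIsoCompQ A b).hom.app (L.X b) ≫ Q.map φ ≫ e.inv), ?_⟩
  show Epi ((homologyFunctor A b).map _)
  show Epi ((homologyFunctor A b).map ((singleFunctorIsoCompQ A b).hom.app (L.X b) ≫ Q.map φ ≫ e.inv))
  rw [Functor.map_comp, Functor.map_comp, Q_homology_eq]
  exact epi_comp' inferInstance (epi_comp' (epi_comp' inferInstance
    (epi_comp' (epi_homologyMap_of_epi φ b)
      (inferInstanceAs (Epi ((homologyFunctorFactors A b).app L).inv)))) inferInstance)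

/-- A map from a single object to an object of lower degrees dies on a quotient. -/
theorem exists_epi_comp_eq_zero {Y : DB A} {b : ℤ} (hY : LE Y (b - 1)) {E : A}
    (φ : (sB A b).obj E ⟶ Y) : ∃ (E' : A) (p : E' ⟶ E), Epi p ∧ (sB A b).map p ≫ φ = 0 := by
  obtain ⟨L, hL, ⟨e⟩⟩ := exists_iso_Q_obj_of_isLE Y.obj (b - 1) (hX := hY)
  let S := (HomologicalComplex.single A (ComplexShape.up ℤ) b).obj E
  let ψ : Q.obj S ⟶ Q.obj L := (singleFunctorIsoCompQ A b).inv.app E ≫ φ.hom ≫ e.hom
  obtain ⟨X', hX', s, hs, g, hg⟩ := right_fac_of_isStrictlyLE ψ b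
  have hq : IsIso (HomologicalComplex.homologyMap s b) := by
    rw [isIso_Q_map_iff_quasiIso] at hs
    infer_instance
  have : Epi (s.f b) := epi_f_of_epi_homologyMap b s
  let p : X'.X b ⟶ E := s.f b ≫ (HomologicalComplex.singleObjXSelf (ComplexShape.up ℤ) b E).hom
  refine ⟨X'.X b, p, inferInstance, ?_⟩
  let u : (HomologicalComplex.single A (ComplexShape.up ℤ) b).obj (X'.X b) ⟶ X' :=
    HomologicalComplex.mkHomFromSingle (𝟙 _) fun k hk =>
      (X'.isZero_of_isStrictlyLE b k (by simp at hk; omega)).eq_of_tgt _ _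
  have hus : u ≫ s = (HomologicalComplex.single A (ComplexShape.up ℤ) b).map p := by
    apply HomologicalComplex.from_single_hom_ext
    simp [u, p, HomologicalComplex.single_map_f_self]
  have hug : u ≫ g = 0 := by
    apply HomologicalComplex.from_single_hom_ext
    exact (L.isZero_of_isStrictlyLE (b - 1) b (by omega)).eq_of_tgt _ _
  apply ObjectProperty.hom_ext
  have h0 : Q.map ((HomologicalComplex.single A (ComplexShape.up ℤ) b).map p) ≫ ψ = 0 := by
    rw [← hus, hg, Functor.map_comp, Category.assoc, IsIso.hom_inv_id_assoc, ← Functor.map_comp,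
      hug, Functor.map_zero]
  have hφ : φ.hom = (singleFunctorIsoCompQ A b).hom.app E ≫ ψ ≫ e.inv := by
    simp only [ψ]
    erw [Category.assoc, Category.assoc, Iso.hom_inv_id, Category.comp_id]
    exact ((singleFunctorIsoCompQ A b).hom_inv_id_app_assoc E φ.hom).symm
  show (singleFunctor A b).map p ≫ φ.hom = 0
  rw [hφ]
  erw [(singleFunctorIsoCompQ A b).hom.naturality_assoc p, reassoc_of% h0]
  erw [zero_comp, comp_zero]

/-- A map to a single object in the top degree is determined by cohomology. -/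
theorem eq_zero_of_H_eq_zero {K : DB A} {b : ℤ} (hK : LE K b) {X : A} (f : K ⟶ (sB A b).obj X)
    (hf : (H A b).map f = 0) : f = 0 := by
  obtain ⟨L, hL, ⟨e⟩⟩ := exists_iso_Q_obj_of_isLE K.obj b (hX := hK)
  let S := (HomologicalComplex.single A (ComplexShape.up ℤ) b).obj X
  let ψ : Q.obj L ⟶ Q.obj S := e.inv ≫ f.hom ≫ (singleFunctorIsoCompQ A b).hom.app X
  obtain ⟨L', hL', s, hs, g, hg⟩ := right_fac_of_isStrictlyLE ψ b
  have hψ : (homologyFunctor A b).map ψ = 0 := by
    show (homologyFunctor A b).map (e.inv ≫ f.hom ≫ (singleFunctorIsoCompQ A b).hom.app X) = 0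
    rw [Functor.map_comp, Functor.map_comp, show (homologyFunctor A b).map f.hom = 0 from hf,
      zero_comp, comp_zero]
  have h1 : (homologyFunctor A b).map (Q.map g) = 0 := by
    rw [show Q.map g = Q.map s ≫ ψ by rw [hg, IsIso.hom_inv_id_assoc], Functor.map_comp, hψ, comp_zero]
  rw [Q_homology_eq] at h1
  have hg0 := eq_zero_of_homologyMap_eq_zero b g
    (@zero_of_comp_mono _ _ _ _ _ _ _ ((homologyFunctorFactors A b).inv.app S)
      (inferInstanceAs (Mono ((homologyFunctorFactors A b).app S).inv))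
      (zero_of_epi_comp ((homologyFunctorFactors A b).hom.app L') h1))
  rw [hg0, Functor.map_zero, comp_zero] at hg
  apply ObjectProperty.hom_ext
  have h2 : e.inv ≫ f.hom ≫ (singleFunctorIsoCompQ A b).hom.app X = 0 := hg
  exact @zero_of_comp_mono _ _ _ _ _ _ _ ((singleFunctorIsoCompQ A b).hom.app X)
    (inferInstanceAs (Mono ((singleFunctorIsoCompQ A b).app X).hom)) (zero_of_epi_comp e.inv h2)

/-- The cone of a map from a single object in the top degree, surjective on `H^b`. -/
theorem cone_amplitude {K : DB A} {a b : ℤ} (hKa : GE K a) (hKb : LE K b) {E : A}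
    (g : (sB A b).obj E ⟶ K) (hg : Epi ((H A b).map g)) {C : DB A} (q : K ⟶ C)
    (δ : C ⟶ ((sB A b).obj E)⟦(1 : ℤ)⟧) (hT : Triangle.mk g q δ ∈ distTriang (DB A)) :
    GE C (min a (b - 1)) ∧ LE C (b - 1) := by
  have hS₁ : LE (((sB A b).obj E)⟦(1 : ℤ)⟧) (b - 1) :=
    (sB_le (b - 1) E).of_iso ((shiftIso (1 : ℤ) (b - 1) b (by omega)).app E).symm
  have hS₂ : GE (((sB A b).obj E)⟦(1 : ℤ)⟧) (b - 1) :=
    (sB_ge (b - 1) E).of_iso ((shiftIso (1 : ℤ) (b - 1) b (by omega)).app E).symm
  have hzero : ∀ i : ℤ, (i ≠ b - 1 → IsZero ((H A i).obj (((sB A b).obj E)⟦(1 : ℤ)⟧))) := by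
    intro i hi
    rcases lt_or_gt_of_ne hi with h | h
    · exact isZero_H_of_ge hS₂ h
    · exact isZero_H_of_le hS₁ h
  have key : ∀ i : ℤ, i ≠ b - 1 → (H A i).map q = 0 → IsZero ((H A i).obj C) := fun i hi hq =>
    ShortComplex.Exact.isZero_X₂ (H_exact _ (rot_of_distTriang _ hT) i) hq
      ((hzero i hi).eq_of_tgt _ _)
  refine ⟨ge_of_isZero fun i hi => ?_, le_of_isZero fun i hi => ?_⟩
  · exact key i (by omega) ((isZero_H_of_ge hKa (by omega)).eq_of_src _ _)
  · refine key i (by omega) ?_
    rcases (show b ≤ i by omega).eq_or_lt with rfl | h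
    · have := hg
      rw [← cancel_epi ((H A b).map g), ← Functor.map_comp, comp_zero]
      rw [show g ≫ q = 0 from comp_distTriang_mor_zero₁₂ _ hT, Functor.map_zero]
    · exact (isZero_H_of_le hKb h).eq_of_src _ _

/-- Induction on the amplitude. -/
theorem induction (P : DB A → Prop) (hiso : ∀ {K L : DB A}, (K ≅ L) → P K → P L)
    (hsingle : ∀ (n : ℤ) (X : A), P ((sB A n).obj X))
    (hext : ∀ T : Triangle (DB A), T ∈ distTriang (DB A) → P T.obj₁ → P T.obj₃ → P T.obj₂)
    (K : DB A) : P K := by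
  suffices h : ∀ (d : ℕ) (a : ℤ) (K : DB A), GE K a → LE K (a + d) → P K by
    obtain ⟨a, b, ha, hb⟩ := exists_amplitude K
    exact h (b - a).toNat a K ha (hb.mono (by omega))
  intro d
  induction d with
  | zero =>
    intro a K ha hb
    obtain ⟨X, ⟨e⟩⟩ := exists_iso_sB ha (hb.mono (by omega))
    exact hiso e.symm (hsingle a X)
  | succ d ih =>
    intro a K ha hb
    obtain ⟨E, g, hg⟩ := exists_epi_H hb
    obtain ⟨C, q, δ, hT⟩ := distinguished_cocone_triangle g
    obtain ⟨h₁, h₂⟩ := cone_amplitude ha hb g hg q δ hT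
    exact hext _ hT (hsingle _ _) (ih a C (h₁.mono (by omega)) (h₂.mono (by omega)))

end Groth.Agent.DBSib.Basic
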