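import Groth.Agent.DBSib.Basic
import Mathlib.CategoryTheory.Triangulated.Functor

/-!
# Comparison of two exact functors on `D^b(A)` that agree on `A`
-/

set_option autoImplicit false
universe w v u v' u'
open CategoryTheory CategoryTheory.Limits CategoryTheory.Pretriangulated
open Groth.Agent.DBSib.Basic

namespace Groth.Agent.DBSib.Compat

variable {A : Type u} [Category.{v} A] [Abelian A] [HasDerivedCategory.{w} A]
  {D : Type u'} [Category.{v'} D] [Preadditive D] [HasZeroObject D] [HasShift D ℤ]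
  [∀ n : ℤ, (shiftFunctor D n).Additive] [Pretriangulated D]
  {F F' : DB A ⥤ D} [F.CommShift ℤ] [F'.CommShift ℤ]

/-- Transport of a comparison in degree `n` to degree `n - 1`. -/
noncomputable def shiftDown {n m : ℤ} (h : 1 + m = n) (τ : sB A n ⋙ F ≅ sB A n ⋙ F') :
    sB A m ⋙ F ≅ sB A m ⋙ F' :=
  NatIso.ofComponents
    (fun X => F.mapIso ((shiftIso 1 m n h).app X).symm ≪≫ (F.commShiftIso (1 : ℤ)).app _ ≪≫
      (shiftFunctor D (1 : ℤ)).mapIso (τ.app X) ≪≫ ((F'.commShiftIso (1 : ℤ)).app _).symm ≪≫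
      F'.mapIso ((shiftIso 1 m n h).app X))
    (fun {X Y} f => by
      have h1 : F.map ((sB A m).map f) ≫ F.map ((shiftIso 1 m n h).inv.app Y) =
          F.map ((shiftIso 1 m n h).inv.app X) ≫ F.map (((sB A n).map f)⟦(1 : ℤ)⟧') := by
        rw [← F.map_comp, ← F.map_comp]
        exact congrArg F.map ((shiftIso 1 m n h).inv.naturality f)
      have h2 := (F.commShiftIso (1 : ℤ)).hom.naturality ((sB A n).map f)
      have h3 := congrArg (shiftFunctor D (1 : ℤ)).map (τ.hom.naturality f)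
      simp only [Functor.map_comp, Functor.comp_map] at h3
      have h4 := (F'.commShiftIso (1 : ℤ)).inv.naturality ((sB A n).map f)
      have h5 : F'.map (((sB A n).map f)⟦(1 : ℤ)⟧') ≫ F'.map ((shiftIso 1 m n h).hom.app Y) =
          F'.map ((shiftIso 1 m n h).hom.app X) ≫ F'.map ((sB A m).map f) := by
        rw [← F'.map_comp, ← F'.map_comp]
        exact congrArg F'.map ((shiftIso 1 m n h).hom.naturality f)
      simp only [Functor.comp_map, Iso.trans_hom, Functor.mapIso_hom, Iso.app_hom, Iso.symm_hom,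
        Iso.app_inv, Category.assoc] at h2 h4 ⊢
      rw [reassoc_of% h1, reassoc_of% h2, reassoc_of% h3, reassoc_of% h4, h5])

/-- The defining square of `shiftDown`. -/
theorem shiftDown_square {n m : ℤ} (h : 1 + m = n) (τ : sB A n ⋙ F ≅ sB A n ⋙ F') {C : DB A} {E : A}
    (δ : C ⟶ ((sB A n).obj E)⟦(1 : ℤ)⟧) (γ : F.obj C ⟶ F'.obj C) :
    ((F.map δ ≫ (F.commShiftIso (1 : ℤ)).hom.app ((sB A n).obj E)) ≫ (τ.hom.app E)⟦(1 : ℤ)⟧' =
        γ ≫ F'.map δ ≫ (F'.commShiftIso (1 : ℤ)).hom.app ((sB A n).obj E)) ↔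
      F.map (δ ≫ (shiftIso 1 m n h).hom.app E) ≫ (shiftDown h τ).hom.app E =
        γ ≫ F'.map (δ ≫ (shiftIso 1 m n h).hom.app E) := by
  have hl : F.map (δ ≫ (shiftIso 1 m n h).hom.app E) ≫ (shiftDown h τ).hom.app E =
      (((F.map δ ≫ (F.commShiftIso (1 : ℤ)).hom.app ((sB A n).obj E)) ≫ (τ.hom.app E)⟦(1 : ℤ)⟧') ≫
        (F'.commShiftIso (1 : ℤ)).inv.app ((sB A n).obj E)) ≫
        F'.map ((shiftIso 1 m n h).hom.app E) := by
    simp only [shiftDown, NatIso.ofComponents_hom_app, Iso.trans_hom, Functor.mapIso_hom,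
      Iso.app_hom, Iso.symm_hom, Iso.app_inv, Category.assoc, F.map_comp, Functor.comp_obj]
    rw [← F.map_comp_assoc ((shiftIso 1 m n h).hom.app E), Iso.hom_inv_id_app, F.map_id]
    erw [Category.id_comp]
  rw [hl]
  constructor
  · intro hsq
    rw [hsq]
    simp
  · intro hsq
    have hr : γ ≫ F'.map (δ ≫ (shiftIso 1 m n h).hom.app E) =
        ((γ ≫ F'.map δ ≫ (F'.commShiftIso (1 : ℤ)).hom.app ((sB A n).obj E)) ≫
          (F'.commShiftIso (1 : ℤ)).inv.app ((sB A n).obj E)) ≫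
          F'.map ((shiftIso 1 m n h).hom.app E) := by simp
    rw [hr] at hsq
    exact (cancel_mono _).mp ((cancel_mono _).mp hsq)

/-- Every comparison in degree `n - 1` comes from one in degree `n`. -/
theorem exists_shiftDown_eq {n m : ℤ} (h : 1 + m = n) (σ : sB A m ⋙ F ≅ sB A m ⋙ F') :
    ∃ τ : sB A n ⋙ F ≅ sB A n ⋙ F', shiftDown h τ = σ := by
  let c : ∀ X, (F.obj ((sB A n).obj X))⟦(1 : ℤ)⟧ ≅ (F'.obj ((sB A n).obj X))⟦(1 : ℤ)⟧ := fun X =>
    ((F.commShiftIso (1 : ℤ)).app _).symm ≪≫ F.mapIso ((shiftIso 1 m n h).app X) ≪≫ σ.app X ≪≫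
      F'.mapIso ((shiftIso 1 m n h).app X).symm ≪≫ (F'.commShiftIso (1 : ℤ)).app _
  refine ⟨NatIso.ofComponents (fun X => (shiftFunctor D (1 : ℤ)).preimageIso (c X)) ?_, ?_⟩
  · intro X Y f
    apply (shiftFunctor D (1 : ℤ)).map_injective
    have h1 : F.map (((sB A n).map f)⟦(1 : ℤ)⟧') ≫ F.map ((shiftIso 1 m n h).hom.app Y) =
          F.map ((shiftIso 1 m n h).hom.app X) ≫ F.map ((sB A m).map f) := by
      rw [← F.map_comp, ← F.map_comp]
      exact congrArg F.map ((shiftIso 1 m n h).hom.naturality f)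
    have h2 := (F.commShiftIso (1 : ℤ)).inv.naturality ((sB A n).map f)
    have h3 := σ.hom.naturality f
    have h4 : F'.map ((sB A m).map f) ≫ F'.map ((shiftIso 1 m n h).inv.app Y) =
          F'.map ((shiftIso 1 m n h).inv.app X) ≫ F'.map (((sB A n).map f)⟦(1 : ℤ)⟧') := by
      rw [← F'.map_comp, ← F'.map_comp]
      exact congrArg F'.map ((shiftIso 1 m n h).inv.naturality f)
    have h5 := (F'.commShiftIso (1 : ℤ)).hom.naturality ((sB A n).map f)
    simp only [Functor.map_comp, Functor.comp_map, c, Functor.preimageIso_hom, Functor.map_preimage,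
      Iso.trans_hom, Functor.mapIso_hom, Iso.app_hom, Iso.symm_hom, Iso.app_inv,
      Category.assoc] at h2 h3 h5 ⊢
    rw [reassoc_of% h2, reassoc_of% h1, reassoc_of% h3, reassoc_of% h4, h5]
  · ext X
    simp [shiftDown, c]
    rw [← F.map_comp_assoc, Iso.inv_hom_id_app, F.map_id, ← F'.map_comp, Iso.inv_hom_id_app,
      F'.map_id]
    exact (Category.id_comp _).trans (Category.comp_id _)

/-- A coherent family of comparisons in all degrees. -/
theorem exists_family (θ₀ : sB A 0 ⋙ F ≅ sB A 0 ⋙ F') :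
    ∃ θ : ∀ n : ℤ, sB A n ⋙ F ≅ sB A n ⋙ F', θ 0 = θ₀ ∧
      ∀ (n m : ℤ) (h : 1 + m = n), shiftDown h (θ n) = θ m := by
  choose up hup using fun (k : ℕ) (σ : sB A (k : ℤ) ⋙ F ≅ sB A (k : ℤ) ⋙ F') =>
    exists_shiftDown_eq (n := ((k + 1 : ℕ) : ℤ)) (by omega) σ
  let pos : ∀ k : ℕ, sB A (k : ℤ) ⋙ F ≅ sB A (k : ℤ) ⋙ F' := fun k =>
    Nat.rec θ₀ (fun k σ => up k σ) k
  let neg : ∀ k : ℕ, sB A (Int.negSucc k) ⋙ F ≅ sB A (Int.negSucc k) ⋙ F' := fun k =>
    Nat.rec (shiftDown (n := 0) (by rfl) θ₀) (fun k σ => shiftDown (by omega) σ) k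
  let θ : ∀ n : ℤ, sB A n ⋙ F ≅ sB A n ⋙ F' := fun n =>
    match n with
    | Int.ofNat k => pos k
    | Int.negSucc k => neg k
  refine ⟨θ, rfl, ?_⟩
  intro n m h
  match m with
  | Int.ofNat k =>
    obtain rfl : n = ((k + 1 : ℕ) : ℤ) := by simp only [Int.ofNat_eq_natCast] at h; omega
    exact hup k (pos k)
  | Int.negSucc 0 =>
    obtain rfl : n = 0 := by omega
    rfl
  | Int.negSucc (k + 1) =>
    obtain rfl : n = Int.negSucc k := by omega
    rfl

variable [F.IsTriangulated] [F'.IsTriangulated]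

/-- Hom-vanishing spreads from single objects to all objects below a degree. -/
theorem hom_zero_of_singles {M : D} (c : ℤ)
    (h : ∀ (i : ℤ) (X : A), i ≤ c → ∀ f : F.obj ((sB A i).obj X) ⟶ M, f = 0)
    {C : DB A} (hC : Groth.Agent.DBSib.Basic.LE C c) (f : F.obj C ⟶ M) : f = 0 := by
  obtain ⟨a, -, ha, -⟩ := exists_amplitude C
  suffices key : ∀ (d : ℕ) (c' : ℤ), c' ≤ c → ∀ K : DB A, GE K (c' - d) →
      Groth.Agent.DBSib.Basic.LE K c' → ∀ f : F.obj K ⟶ M, f = 0 from
    key (c - a).toNat c le_rfl C (ha.mono (by omega)) hC f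
  intro d
  induction d with
  | zero =>
    intro c' hc K h₁ h₂ f
    obtain ⟨X, ⟨e⟩⟩ := exists_iso_sB (h₁.mono (by omega)) h₂
    rw [← cancel_epi (F.map e.inv), comp_zero]
    exact h c' X hc _
  | succ d ih =>
    intro c' hc K h₁ h₂ f
    obtain ⟨E, g, hg⟩ := exists_epi_H h₂
    obtain ⟨C', q, δ, hT⟩ := distinguished_cocone_triangle g
    obtain ⟨k₁, k₂⟩ := cone_amplitude h₁ h₂ g hg q δ hT
    obtain ⟨v, hv⟩ := Triangle.yoneda_exact₂ _ (F.map_distinguished _ hT) f (h c' E hc _)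
    rw [hv, ih (c' - 1) (by omega) C' (k₁.mono (by omega)) k₂ v]
    exact comp_zero

/-- Comparisons in different degrees are compatible. -/
theorem compat (θ : ∀ n : ℤ, sB A n ⋙ F ≅ sB A n ⋙ F')
    (hθ : ∀ (n m : ℤ) (h : 1 + m = n), shiftDown h (θ n) = θ m)
    (hZ : ∀ (i j : ℤ) (X Y : A), i < j →
      ∀ f : F.obj ((sB A i).obj X) ⟶ F'.obj ((sB A j).obj Y), f = 0)
    {i j : ℤ} {X Y : A} (f : (sB A i).obj X ⟶ (sB A j).obj Y) :
    F.map f ≫ (θ j).hom.app Y = (θ i).hom.app X ≫ F'.map f := by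
  by_cases hij : i < j
  · rw [hom_eq_zero (sB_le i X) (sB_ge j Y) hij f]
    simp
  · obtain ⟨m, rfl⟩ : ∃ m : ℕ, i = j + m := ⟨(i - j).toNat, by omega⟩
    clear hij
    induction m generalizing X with
    | zero =>
      have h0 : j + (0 : ℕ) = j := by simp
      revert f
      rw [h0]
      intro f
      obtain ⟨f₀, rfl⟩ := (sB A j).map_surjective f
      exact (θ j).hom.naturality f₀
    | succ m ih =>
      obtain ⟨k, hk⟩ : ∃ k, k = j + (m : ℤ) := ⟨_, rfl⟩
      rw [← hk] at ih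
      obtain ⟨i, hi⟩ : ∃ i, i = j + ((m + 1 : ℕ) : ℤ) := ⟨_, rfl⟩
      revert f
      rw [← hi]
      intro f
      have hki : 1 + k = i := by omega
      obtain ⟨E, p, hp, hpf⟩ := exists_epi_comp_eq_zero (b := i) ((sB_le j Y).mono (by omega)) f
      obtain ⟨C, q, δ, hT⟩ := distinguished_cocone_triangle ((sB A i).map p)
      have hHp : Epi ((H A i).map ((sB A i).map p)) :=
        ((MorphismProperty.epimorphisms A).arrow_iso_iff
          (Arrow.isoMk (f := Arrow.mk ((H A i).map ((sB A i).map p))) (g := Arrow.mk p)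
            ((DerivedCategory.singleFunctorCompHomologyFunctorIso A i).app E)
            ((DerivedCategory.singleFunctorCompHomologyFunctorIso A i).app X)
            ((DerivedCategory.singleFunctorCompHomologyFunctorIso A i).hom.naturality p).symm)).mpr hp
      obtain ⟨h₁, h₂⟩ := cone_amplitude (sB_ge i X) (sB_le i X) ((sB A i).map p) hHp q δ hT
      obtain ⟨M, ⟨e⟩⟩ := exists_iso_sB (h₁.mono (show k ≤ _ by omega)) (h₂.mono (show _ ≤ k by omega))
      obtain ⟨f', hf'⟩ : ∃ f' : C ⟶ (sB A j).obj Y, f = q ≫ f' :=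
        Triangle.yoneda_exact₂ _ hT f hpf
      -- the candidate on the cone
      let θC : F.obj C ⟶ F'.obj C := F.map e.hom ≫ (θ k).hom.app M ≫ F'.map e.inv
      obtain ⟨w, hw⟩ := (sB A k).map_surjective (e.inv ≫ δ ≫ (shiftIso 1 k i hki).hom.app E)
      have hδ : F.map (δ ≫ (shiftIso 1 k i hki).hom.app E) ≫ (θ k).hom.app E =
          θC ≫ F'.map (δ ≫ (shiftIso 1 k i hki).hom.app E) := by
        have := (θ k).hom.naturality w
        dsimp at this
        rw [hw] at this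
        simp only [θC, Category.assoc, ← F'.map_comp]
        rw [← this, ← Category.assoc, ← F.map_comp, Iso.hom_inv_id_assoc]
      rw [← hθ i k hki] at hδ
      have hsq := (shiftDown_square hki (θ i) δ θC).mpr hδ
      -- the comparison given by the triangle axiom
      obtain ⟨(χ : F.obj C ⟶ F'.obj C), hχ₁, hχ₂⟩ := complete_distinguished_triangle_morphism _ _
        (F.map_distinguished _ hT) (F'.map_distinguished _ hT) ((θ i).hom.app E) ((θ i).hom.app X)
        ((θ i).hom.naturality p)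
      change F.map q ≫ χ = (θ i).hom.app X ≫ F'.map q at hχ₁
      change (F.map δ ≫ (F.commShiftIso (1 : ℤ)).hom.app _) ≫ ((θ i).hom.app E)⟦(1 : ℤ)⟧' =
        χ ≫ F'.map δ ≫ (F'.commShiftIso (1 : ℤ)).hom.app _ at hχ₂
      have hd : (θC - χ) ≫ (F'.mapTriangle.obj (Triangle.mk ((sB A i).map p) q δ)).mor₃ = 0 := by
        show (θC - χ) ≫ F'.map δ ≫ (F'.commShiftIso (1 : ℤ)).hom.app _ = 0
        rw [Preadditive.sub_comp, ← hsq, hχ₂, sub_self]
      obtain ⟨d, hd'⟩ := Triangle.coyoneda_exact₃ _ (F'.map_distinguished _ hT) (θC - χ) hd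
      have hd0 : d = 0 := hom_zero_of_singles k
        (fun i' X' hi' => hZ i' i X' X (by omega)) ((sB_le k M).of_iso e.symm) d
      rw [hd0] at hd'
      erw [zero_comp] at hd'
      replace hd' : θC = χ := sub_eq_zero.mp hd'
      rw [← hd'] at hχ₁
      have hih := ih (e.inv ≫ f')
      rw [F.map_comp, F'.map_comp, Category.assoc] at hih
      rw [hf', F.map_comp, F'.map_comp, ← Category.assoc ((θ i).hom.app X)]
      erw [← hχ₁]
      simp only [θC, Category.assoc]
      erw [← hih]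
      rw [← F.map_comp_assoc e.hom, Iso.hom_inv_id, F.map_id, Category.id_comp]

end Groth.Agent.DBSib.Compat
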