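import Groth.Agent.DBSib.Sibling
import Mathlib.CategoryTheory.HomCongr

set_option autoImplicit false
universe w v u v' u'
open CategoryTheory CategoryTheory.Limits CategoryTheory.Pretriangulated
open Groth.Agent.DBSib.Basic Groth.Agent.DBSib.Compat Groth.Agent.DBSib.Sibling

namespace Groth.Agent.DBSib.FF

section Generic
variable {C : Type u} [Category.{v} C] [Preadditive C] [HasZeroObject C] [HasShift C ℤ]
  [∀ n : ℤ, (shiftFunctor C n).Additive] [Pretriangulated C]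
  {D : Type u'} [Category.{v'} D] [Preadditive D] [HasZeroObject D] [HasShift D ℤ]
  [∀ n : ℤ, (shiftFunctor D n).Additive] [Pretriangulated D]
  (F : C ⥤ D) [F.CommShift ℤ]

/-- `F` is bijective on maps from `X` to `Y`. -/
def Bij (X Y : C) : Prop := Function.Bijective (F.map : (X ⟶ Y) → _)

variable {F}

omit [Preadditive C] [HasZeroObject C] [∀ n : ℤ, (shiftFunctor C n).Additive] [Preadditive D]
  [HasZeroObject D] [∀ n : ℤ, (shiftFunctor D n).Additive] [HasShift C ℤ] [HasShift D ℤ]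
  [F.CommShift ℤ] [Pretriangulated C] [Pretriangulated D] in
theorem Bij.of_iso {X X' Y Y' : C} (a : X ≅ X') (b : Y ≅ Y') (h : Bij F X Y) : Bij F X' Y' := by
  have : (F.map : (X' ⟶ Y') → _) =
      ((F.mapIso a).homCongr (F.mapIso b)) ∘ F.map ∘ (a.homCongr b).symm := by
    funext f; simp
  unfold Bij
  rw [this]
  exact (Equiv.bijective _).comp (h.comp (Equiv.bijective _))

theorem Bij.shift {X Y : C} (n : ℤ) (h : Bij F X Y) : Bij F (X⟦n⟧) (Y⟦n⟧) := by
  have hs : Function.Bijective ((shiftFunctor C n).map : (X ⟶ Y) → _) :=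
    ⟨(shiftFunctor C n).map_injective, (shiftFunctor C n).map_surjective⟩
  have hs' : Function.Bijective ((shiftFunctor D n).map : (F.obj X ⟶ F.obj Y) → _) :=
    ⟨(shiftFunctor D n).map_injective, (shiftFunctor D n).map_surjective⟩
  unfold Bij
  rw [← Function.Bijective.of_comp_iff _ hs]
  have : (F.map : (X⟦n⟧ ⟶ Y⟦n⟧) → _) ∘ (shiftFunctor C n).map =
      (((F.commShiftIso n).app X).symm.homCongr ((F.commShiftIso n).app Y).symm) ∘
        (shiftFunctor D n).map ∘ F.map := by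
    funext f; simp
  rw [this]
  exact (Equiv.bijective _).comp (hs'.comp h)

variable [F.IsTriangulated]

theorem Bij.ext_left {T : Triangle C} (hT : T ∈ distTriang C) {L : C} (h₁ : Bij F T.obj₁ L)
    (h₃ : Bij F T.obj₃ L) (h₁' : Bij F (T.obj₁⟦(1 : ℤ)⟧) L) (h₃' : Bij F (T.obj₃⟦(-1 : ℤ)⟧) L) :
    Bij F T.obj₂ L := by
  have : F.Additive := inferInstance
  refine ⟨(injective_iff_map_eq_zero' (F.mapAddHom)).mpr fun f => ⟨fun hf => ?_, fun hf => by simp [hf]⟩, fun h => ?_⟩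
  · change F.map f = 0 at hf
    have h0 : T.mor₁ ≫ f = 0 := h₁.injective (by rw [F.map_comp, hf, comp_zero, F.map_zero])
    obtain ⟨g, hg⟩ := Triangle.yoneda_exact₂ _ hT f h0
    obtain ⟨(u : F.obj (T.obj₁⟦(1 : ℤ)⟧) ⟶ F.obj L), (hu : F.map g = F.map T.mor₃ ≫ u)⟩ :=
      Triangle.yoneda_exact₂ _ (F.map_distinguished _ (rot_of_distTriang _ hT)) (F.map g)
        (show F.map T.mor₂ ≫ F.map g = 0 by rw [← F.map_comp, ← hg, hf])
    obtain ⟨k, rfl⟩ := h₁'.surjective u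
    have hgk : g = T.mor₃ ≫ k := h₃.injective (by rw [hu, F.map_comp])
    rw [hg, hgk, ← Category.assoc, comp_distTriang_mor_zero₂₃ _ hT, zero_comp]
  · obtain ⟨f₁, hf₁⟩ := h₁.surjective (F.map T.mor₁ ≫ h)
    let j : T.obj₃⟦(-1 : ℤ)⟧ ⟶ T.obj₁ := T.invRotate.mor₁
    have hm : j ≫ T.mor₁ = 0 := comp_distTriang_mor_zero₁₂ _ (inv_rot_of_distTriang _ hT)
    have h0 : j ≫ f₁ = 0 := h₃'.injective (by
      show F.map (j ≫ f₁) = F.map 0
      rw [F.map_comp, hf₁, ← F.map_comp_assoc, hm, F.map_zero, zero_comp, F.map_zero])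
    obtain ⟨(f₂ : T.obj₂ ⟶ L), (hf₂ : f₁ = T.mor₁ ≫ f₂)⟩ :=
      Triangle.yoneda_exact₂ _ (inv_rot_of_distTriang _ hT) f₁ h0
    obtain ⟨(u : F.obj T.obj₃ ⟶ F.obj L), (hu : h - F.map f₂ = F.map T.mor₂ ≫ u)⟩ :=
      Triangle.yoneda_exact₂ _ (F.map_distinguished _ hT) (h - F.map f₂)
        (show F.map T.mor₁ ≫ (h - F.map f₂) = 0 by
          rw [Preadditive.comp_sub, ← F.map_comp, ← hf₂, ← hf₁, sub_self])
    obtain ⟨g, rfl⟩ := h₃.surjective u
    exact ⟨f₂ + T.mor₂ ≫ g, by rw [F.map_add, F.map_comp, ← hu, add_sub_cancel]⟩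

theorem Bij.ext_right {T : Triangle C} (hT : T ∈ distTriang C) {K : C} (h₁ : Bij F K T.obj₁)
    (h₃ : Bij F K T.obj₃) (h₁' : Bij F K (T.obj₁⟦(1 : ℤ)⟧)) (h₃' : Bij F K (T.obj₃⟦(-1 : ℤ)⟧)) :
    Bij F K T.obj₂ := by
  have : F.Additive := inferInstance
  refine ⟨(injective_iff_map_eq_zero' (F.mapAddHom)).mpr fun f => ⟨fun hf => ?_, fun hf => by simp [hf]⟩, fun h => ?_⟩
  · change F.map f = 0 at hf
    have h0 : f ≫ T.mor₂ = 0 := h₃.injective (by rw [F.map_comp, hf, zero_comp, F.map_zero])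
    obtain ⟨g, hg⟩ := Triangle.coyoneda_exact₂ _ hT f h0
    obtain ⟨(u : F.obj K ⟶ F.obj (T.obj₃⟦(-1 : ℤ)⟧)), (hu : F.map g = u ≫ F.map T.invRotate.mor₁)⟩ :=
      Triangle.coyoneda_exact₂ _ (F.map_distinguished _ (inv_rot_of_distTriang _ hT)) (F.map g)
        (show F.map g ≫ F.map T.mor₁ = 0 by rw [← F.map_comp, ← hg, hf])
    obtain ⟨k, rfl⟩ := h₃'.surjective u
    let j : T.obj₃⟦(-1 : ℤ)⟧ ⟶ T.obj₁ := T.invRotate.mor₁
    have hgk : g = k ≫ j := h₁.injective (by rw [hu]; exact (F.map_comp _ _).symm)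
    have hm : j ≫ T.mor₁ = 0 := comp_distTriang_mor_zero₁₂ _ (inv_rot_of_distTriang _ hT)
    rw [hg, hgk]
    exact (Category.assoc k j T.mor₁).trans (by rw [hm, comp_zero])
  · obtain ⟨g₃, hg₃⟩ := h₃.surjective (h ≫ F.map T.mor₂)
    have h0 : g₃ ≫ T.mor₃ = 0 := h₁'.injective (by
      rw [F.map_comp, hg₃, Category.assoc, ← F.map_comp, comp_distTriang_mor_zero₂₃ _ hT,
        F.map_zero, comp_zero, F.map_zero])
    obtain ⟨f₂, hf₂⟩ := Triangle.coyoneda_exact₃ _ hT g₃ h0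
    obtain ⟨(u : F.obj K ⟶ F.obj T.obj₁), (hu : h - F.map f₂ = u ≫ F.map T.mor₁)⟩ :=
      Triangle.coyoneda_exact₂ _ (F.map_distinguished _ hT) (h - F.map f₂)
        (show (h - F.map f₂) ≫ F.map T.mor₂ = 0 by
          rw [Preadditive.sub_comp, ← F.map_comp, ← hf₂, hg₃, sub_self])
    obtain ⟨g, rfl⟩ := h₁.surjective u
    exact ⟨f₂ + g ≫ T.mor₁, by rw [F.map_add, F.map_comp g, ← hu, add_sub_cancel]⟩

end Generic

variable {A : Type u} [Category.{v} A] [Abelian A] [HasDerivedCategory.{w} A]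
  {D : Type u'} [Category.{v'} D] [Preadditive D] [HasZeroObject D] [HasShift D ℤ]
  [∀ n : ℤ, (shiftFunctor D n).Additive] [Pretriangulated D]
  {F F' : DB A ⥤ D} [F.CommShift ℤ] [F'.CommShift ℤ] [F.IsTriangulated] [F'.IsTriangulated]

omit [F'.CommShift ℤ] [F'.IsTriangulated] in
theorem vanishing_of_full [F.Full] (i j : ℤ) (X Y : A) (hij : i < j)
    (f : F.obj ((sB A i).obj X) ⟶ F.obj ((sB A j).obj Y)) : f = 0 := by
  obtain ⟨g, rfl⟩ := F.map_surjective f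
  rw [hom_eq_zero (sB_le i X) (sB_ge j Y) hij g, F.map_zero]

/-- A functor agreeing on `A` with a fully faithful one is bijective on all morphisms. -/
theorem bij_all [F.Full] [F.Faithful] (θ₀ : sB A 0 ⋙ F ≅ sB A 0 ⋙ F') (K L : DB A) :
    Bij F' K L := by
  obtain ⟨θ, -, hθ⟩ := exists_family θ₀
  have hc : ∀ {i j : ℤ} {X Y : A} (f : (sB A i).obj X ⟶ (sB A j).obj Y),
      F.map f ≫ (θ j).hom.app Y = (θ i).hom.app X ≫ F'.map f :=
    compat θ hθ fun i j X Y hij => hom_eq_zero_of_iso (vanishing_of_full i j X Y hij) ((θ j).app Y)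
  have hs : ∀ i j X Y, Bij F' ((sB A i).obj X) ((sB A j).obj Y) := fun i j X Y => by
    have h1 : (F'.map : ((sB A i).obj X ⟶ (sB A j).obj Y) → _) =
        ((θ i).app X).homCongr ((θ j).app Y) ∘ F.map := by
      funext f
      show F'.map f = (θ i).inv.app X ≫ F.map f ≫ (θ j).hom.app Y
      rw [hc f]
      exact ((θ i).inv_hom_id_app_assoc X _).symm
    unfold Bij
    rw [h1]
    exact (Equiv.bijective _).comp ⟨F.map_injective, F.map_surjective⟩
  have h1 : ∀ K : DB A, ∀ j Y, Bij F' K ((sB A j).obj Y) := by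
    refine Groth.Agent.DBSib.Basic.induction _ (fun e h j Y => (h j Y).of_iso e (Iso.refl _))
      (fun n X j Y => hs n j X Y) fun T hT h₁ h₃ j Y => ?_
    have hsh : ∀ {K : DB A}, (∀ j Y, Bij F' K ((sB A j).obj Y)) → ∀ n : ℤ,
        Bij F' (K⟦n⟧) ((sB A j).obj Y) := fun h n =>
      ((h (j + n) Y).shift n).of_iso (Iso.refl _) ((shiftIso n j (j + n) (by omega)).app Y)
    exact Bij.ext_left hT (h₁ j Y) (h₃ j Y) (hsh h₁ 1) (hsh h₃ (-1))
  revert K
  refine Groth.Agent.DBSib.Basic.induction (fun L => ∀ K, Bij F' K L)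
    (fun e h K => (h K).of_iso (Iso.refl _) e) (fun n X K => h1 K n X) (fun T hT h₁ h₃ K => ?_) L
  have hsh : ∀ {L : DB A}, (∀ K, Bij F' K L) → ∀ n : ℤ, Bij F' K (L⟦n⟧) := fun {L} h n =>
    ((h (K⟦-n⟧)).shift n).of_iso ((shiftFunctorCompIsoId (DB A) (-n) n (by omega)).app K) (Iso.refl _)
  exact Bij.ext_right hT (h₁ K) (h₃ K) (hsh h₁ 1) (hsh h₃ (-1))

end Groth.Agent.DBSib.FF
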