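import Groth.Agent.DBSib.Basic

set_option autoImplicit false
universe w v u
open CategoryTheory CategoryTheory.Limits CategoryTheory.Pretriangulated
open Groth.Agent.DBSib.Basic

namespace Groth.Agent.DBSib.Kill

variable {A : Type u} [Category.{v} A] [Abelian A] [HasDerivedCategory.{w} A]

theorem epi_H_sB_map (n : ℤ) {E X : A} (p : E ⟶ X) [hp : Epi p] : Epi ((H A n).map ((sB A n).map p)) :=
  ((MorphismProperty.epimorphisms A).arrow_iso_iff
    (Arrow.isoMk (f := Arrow.mk ((H A n).map ((sB A n).map p))) (g := Arrow.mk p)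
      ((DerivedCategory.singleFunctorCompHomologyFunctorIso A n).app E)
      ((DerivedCategory.singleFunctorCompHomologyFunctorIso A n).app X)
      ((DerivedCategory.singleFunctorCompHomologyFunctorIso A n).hom.naturality p).symm)).mpr hp

variable (hneg : ∀ X : A, ∃ (N : A) (p : N ⟶ X), Epi p ∧ ∀ f : X ⟶ N, f = 0)
include hneg

/-- A negative cover of the top cohomology killed by a given morphism to lower degrees. -/
theorem exists_negative_kill {K K' : DB A} {b : ℤ} (hK : Groth.Agent.DBSib.Basic.LE K b)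
    (hK' : Groth.Agent.DBSib.Basic.LE K' (b - 1)) (f : K ⟶ K') (Z : A) :
    ∃ (N : A) (g : (sB A b).obj N ⟶ K), Epi ((H A b).map g) ∧
      (∀ φ : (H A b).obj K ⟶ N, φ = 0) ∧ (∀ φ : Z ⟶ N, φ = 0) ∧ g ≫ f = 0 := by
  obtain ⟨E₀, g₀, hg₀⟩ := exists_epi_H hK
  obtain ⟨E, p₀, hp₀, hkill⟩ := exists_epi_comp_eq_zero hK' (g₀ ≫ f)
  obtain ⟨N, p, hp, hN⟩ := hneg (E ⊞ ((H A b).obj K ⊞ Z))
  refine ⟨N, (sB A b).map (p ≫ biprod.fst) ≫ (sB A b).map p₀ ≫ g₀, ?_, fun φ => ?_, fun φ => ?_, ?_⟩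
  · rw [(H A b).map_comp, (H A b).map_comp]
    exact epi_comp' (epi_H_sB_map b _) (epi_comp' (epi_H_sB_map b _) hg₀)
  · have := hN (biprod.snd ≫ biprod.fst ≫ φ)
    rw [← cancel_epi (biprod.snd ≫ biprod.fst : E ⊞ ((H A b).obj K ⊞ Z) ⟶ (H A b).obj K),
      Category.assoc, this, comp_zero]
  · have := hN (biprod.snd ≫ biprod.snd ≫ φ)
    rw [← cancel_epi (biprod.snd ≫ biprod.snd : E ⊞ ((H A b).obj K ⊞ Z) ⟶ Z),
      Category.assoc, this, comp_zero]
  · rw [Category.assoc, Category.assoc, hkill, comp_zero]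

end Groth.Agent.DBSib.Kill
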