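import Groth.Agent.DBSib.FF
import Groth.Agent.DBSib.Kill

set_option autoImplicit false
universe w v u v' u'
open CategoryTheory CategoryTheory.Limits CategoryTheory.Pretriangulated
open scoped ZeroObject
open Groth.Agent.DBSib.Basic Groth.Agent.DBSib.Compat Groth.Agent.DBSib.Sibling
open Groth.Agent.DBSib.FF Groth.Agent.DBSib.Kill

namespace Groth.Agent.DBSib.Natural

variable {A : Type u} [Category.{v} A] [Abelian A] [HasDerivedCategory.{w} A]
  {D : Type u'} [Category.{v'} D] [Preadditive D] [HasZeroObject D] [HasShift D ℤ]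
  [∀ n : ℤ, (shiftFunctor D n).Additive] [Pretriangulated D]
  {F F' : DB A ⥤ D} [F.CommShift ℤ] [F'.CommShift ℤ] [F.IsTriangulated] [F'.IsTriangulated]

local notation "LEb" => Groth.Agent.DBSib.Basic.LE

/-- A natural isomorphism on a window of amplitudes, extending the one on single objects. -/
structure Win (θ : ∀ n : ℤ, sB A n ⋙ F ≅ sB A n ⋙ F') (a b : ℤ) where
  app : ∀ K : DB A, GE K a → LEb K b → (F.obj K ⟶ F'.obj K)
  isIso : ∀ K h₁ h₂, IsIso (app K h₁ h₂)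
  nat : ∀ (K L : DB A) h₁ h₂ h₁' h₂' (f : K ⟶ L),
    F.map f ≫ app L h₁' h₂' = app K h₁ h₂ ≫ F'.map f
  single : ∀ (n : ℤ) (X : A) h₁ h₂, a ≤ n → n ≤ b → app ((sB A n).obj X) h₁ h₂ = (θ n).hom.app X

omit [F.CommShift ℤ] [F'.CommShift ℤ] [F.IsTriangulated] [F'.IsTriangulated] in
theorem nat_of_iso {n : ℤ} (τ : sB A n ⋙ F ≅ sB A n ⋙ F') {K L : DB A} {X Y : A}
    (e : K ≅ (sB A n).obj X) (e' : L ≅ (sB A n).obj Y) (f : K ⟶ L) :
    F.map f ≫ F.map e'.hom ≫ τ.hom.app Y ≫ F'.map e'.inv =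
      (F.map e.hom ≫ τ.hom.app X ≫ F'.map e.inv) ≫ F'.map f := by
  obtain ⟨f₀, hf₀⟩ := (sB A n).map_surjective (e.inv ≫ f ≫ e'.hom)
  have hn := τ.hom.naturality f₀
  dsimp at hn
  rw [hf₀] at hn
  simp only [Category.assoc]
  have h1 : F.map f ≫ F.map e'.hom = F.map e.hom ≫ F.map (e.inv ≫ f ≫ e'.hom) := by
    rw [← F.map_comp, ← F.map_comp, Iso.hom_inv_id_assoc]
  have h2 : F'.map (e.inv ≫ f ≫ e'.hom) ≫ F'.map e'.inv = F'.map e.inv ≫ F'.map f := by
    rw [← F'.map_comp, ← F'.map_comp]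
    simp
  rw [reassoc_of% h1, reassoc_of% hn, h2]

/-- The window at a single degree. -/
noncomputable def base (θ : ∀ n : ℤ, sB A n ⋙ F ≅ sB A n ⋙ F') (a : ℤ) : Win θ a a where
  app K h₁ h₂ := F.map (exists_iso_sB h₁ h₂).choose_spec.some.hom ≫
    (θ a).hom.app (exists_iso_sB h₁ h₂).choose ≫
    F'.map (exists_iso_sB h₁ h₂).choose_spec.some.inv
  isIso K h₁ h₂ :=
    inferInstanceAs (IsIso (F.mapIso (exists_iso_sB h₁ h₂).choose_spec.some ≪≫
      (θ a).app _ ≪≫ F'.mapIso (exists_iso_sB h₁ h₂).choose_spec.some.symm).hom)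
  nat _ _ _ _ _ _ f := nat_of_iso (θ a) _ _ f
  single n X h₁ h₂ hn hn' := by
    obtain rfl : n = a := le_antisymm hn' hn
    have := nat_of_iso (θ n) (Iso.refl ((sB A n).obj X)) (exists_iso_sB h₁ h₂).choose_spec.some
      (𝟙 _)
    simpa using this

/-- Biproducts preserve upper bounds. -/
theorem le_biprod {K L : DB A} {b : ℤ} (hK : LEb K b) (hL : LEb L b) : LEb (K ⊞ L) b :=
  le_of_isZero fun i hi => ShortComplex.Exact.isZero_X₂
    (H_exact _ (binaryBiproductTriangle_distinguished K L) i)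
    ((isZero_H_of_le hK hi).eq_of_src _ _) ((isZero_H_of_le hL hi).eq_of_tgt _ _)

theorem ge_biprod {K L : DB A} {a : ℤ} (hK : GE K a) (hL : GE L a) : GE (K ⊞ L) a :=
  ge_of_isZero fun i hi => ShortComplex.Exact.isZero_X₂
    (H_exact _ (binaryBiproductTriangle_distinguished K L) i)
    ((isZero_H_of_ge hK hi).eq_of_src _ _) ((isZero_H_of_ge hL hi).eq_of_tgt _ _)

variable [F.Full] [F.Faithful] (hFF' : ∀ K : DB A, Nonempty (F.obj K ≅ F'.obj K))

include hFF' in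
/-- A morphism killed after projecting away from a negative single object vanishes. -/
theorem eq_zero_of_negative {K L C : DB A} {b : ℤ} (hK : LEb K b) {N : A}
    {g : (sB A b).obj N ⟶ L} {q : L ⟶ C} {δ : C ⟶ ((sB A b).obj N)⟦(1 : ℤ)⟧}
    (hT : Triangle.mk g q δ ∈ distTriang (DB A)) (hN : ∀ φ : (H A b).obj K ⟶ N, φ = 0)
    (u : F.obj K ⟶ F'.obj L) (hu : u ≫ F'.map q = 0) : u = 0 := by
  obtain ⟨w, hw⟩ := Triangle.coyoneda_exact₂ _ (F'.map_distinguished _ hT) u hu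
  obtain ⟨e⟩ := hFF' ((sB A b).obj N)
  have hw0 : w = 0 := hom_eq_zero_of_iso (fun x => by
    obtain ⟨x', rfl⟩ := F.map_surjective x
    let c := (DerivedCategory.singleFunctorCompHomologyFunctorIso A b).app N
    let c' : (H A b).obj ((sB A b).obj N) ≅ N := c
    have hx : (H A b).map x' = 0 :=
      zero_of_comp_mono c'.hom (hN ((H A b).map x' ≫ c'.hom))
    rw [eq_zero_of_H_eq_zero hK x' hx, F.map_zero]) e w
  rw [hw, hw0]
  exact zero_comp

variable (hneg : ∀ X : A, ∃ (N : A) (p : N ⟶ X), Epi p ∧ ∀ f : X ⟶ N, f = 0)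
  {θ : ∀ n : ℤ, sB A n ⋙ F ≅ sB A n ⋙ F'}
  (hθ : ∀ (n m : ℤ) (h : 1 + m = n), shiftDown h (θ n) = θ m)

include hFF' hneg in
/-- Two windows with the same bounds agree. -/
theorem unique (d : ℕ) : ∀ (a : ℤ) (W W' : Win θ a (a + d)) (K : DB A) h₁ h₂ h₁' h₂',
    W.app K h₁ h₂ = W'.app K h₁' h₂' := by
  induction d with
  | zero =>
    intro a W W' K h₁ h₂ _ _
    obtain ⟨X, ⟨e⟩⟩ := exists_iso_sB h₁ (h₂.mono (by omega))
    have hs₁ : GE ((sB A a).obj X) a := sB_ge a X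
    have hs₂ : LEb ((sB A a).obj X) (a + (0 : ℕ)) := (sB_le a X).mono (by omega)
    rw [← cancel_mono (F'.map e.hom), ← W.nat K _ h₁ h₂ hs₁ hs₂ e.hom,
      ← W'.nat K _ h₁ h₂ hs₁ hs₂ e.hom, W.single a X _ _ le_rfl (by omega),
      W'.single a X _ _ le_rfl (by omega)]
  | succ d ih =>
    intro a W W' K h₁ h₂ _ _
    let res : Win θ a (a + (d + 1 : ℕ)) → Win θ a (a + d) := fun W =>
      { app := fun K h₁ h₂ => W.app K h₁ (h₂.mono (by omega))
        isIso := fun _ _ _ => W.isIso _ _ _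
        nat := fun _ _ _ _ _ _ f => W.nat _ _ _ _ _ _ f
        single := fun n X _ _ hn hn' => W.single n X _ _ hn (by omega) }
    obtain ⟨N, g, hg, hN, -, -⟩ := exists_negative_kill hneg (b := a + (d + 1 : ℕ)) h₂
      (K' := (sB A (a + (d : ℕ))).obj (0 : A)) ((sB_le _ _).mono (by omega)) 0 (0 : A)
    obtain ⟨C, q, δ, hT⟩ := distinguished_cocone_triangle g
    obtain ⟨k₁, k₂⟩ := cone_amplitude h₁ h₂ g hg q δ hT
    have k₁' : GE C a := k₁.mono (by omega)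
    have k₂' : LEb C (a + (d + 1 : ℕ)) := k₂.mono (by omega)
    have hC := ih a (res W) (res W') C k₁' (k₂.mono (by omega)) k₁' (k₂.mono (by omega))
    refine sub_eq_zero.mp (eq_zero_of_negative hFF' h₂ hT hN _ ?_)
    rw [Preadditive.sub_comp, ← W.nat K C h₁ h₂ k₁' k₂' q, ← W'.nat K C h₁ h₂ k₁' k₂' q,
      sub_eq_zero]
    exact congrArg (fun t => F.map q ≫ t) hC

include hFF' hneg hθ in
/-- Extending a window upwards. -/
theorem exists_extend {a b : ℤ} (hab : a ≤ b - 1) (W : Win θ a (b - 1)) :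
    Nonempty (Win θ a b) := by
  have hcompat : ∀ {i j : ℤ} {X Y : A} (f : (sB A i).obj X ⟶ (sB A j).obj Y),
      F.map f ≫ (θ j).hom.app Y = (θ i).hom.app X ≫ F'.map f :=
    compat θ hθ fun i j X Y hij => hom_eq_zero_of_iso (vanishing_of_full i j X Y hij) ((θ j).app Y)
  let Good : ∀ K : DB A, (F.obj K ⟶ F'.obj K) → Prop := fun K β =>
    ∀ (C : DB A) (h₁ : GE C a) (h₂ : LEb C (b - 1)) (f : K ⟶ C),
      F.map f ≫ W.app C h₁ h₂ = β ≫ F'.map f
  -- a comparison compatible with one given triangle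
  have hmid : ∀ {K C : DB A} {N : A} {g : (sB A b).obj N ⟶ K} {q : K ⟶ C}
      {δ : C ⟶ ((sB A b).obj N)⟦(1 : ℤ)⟧}, Triangle.mk g q δ ∈ distTriang (DB A) →
      ∀ (k₁ : GE C a) (k₂ : LEb C (b - 1)), ∃ β : F.obj K ⟶ F'.obj K, IsIso β ∧
        F.map q ≫ W.app C k₁ k₂ = β ≫ F'.map q := by
    intro K C N g q δ hT k₁ k₂
    have hsq : F.map (δ ≫ (shiftIso 1 (b - 1) b (by omega)).hom.app N) ≫
        (shiftDown (m := b - 1) (by omega) (θ b)).hom.app N =
        W.app C k₁ k₂ ≫ F'.map (δ ≫ (shiftIso 1 (b - 1) b (by omega)).hom.app N) := by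
      rw [hθ b (b - 1) (by omega), ← W.single (b - 1) N ((sB_ge _ _).mono (by omega)) (sB_le _ _) hab le_rfl]
      exact W.nat _ _ _ _ _ _ _
    obtain ⟨β, -, hβ, hiso⟩ := exists_middle (by omega) (θ b) hT _ hsq
    exact ⟨β, hiso (W.isIso _ _ _), hβ⟩
  have hex : ∀ (K : DB A), GE K a → LEb K b → ∃ β : F.obj K ⟶ F'.obj K, IsIso β ∧ Good K β := by
    intro K h₁ h₂
    obtain ⟨N, g, hg, hN, -, -⟩ := exists_negative_kill hneg h₂
      (K' := (sB A (b - 1)).obj (0 : A)) (sB_le _ _) 0 (0 : A)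
    obtain ⟨C, q, δ, hT⟩ := distinguished_cocone_triangle g
    obtain ⟨k₁, k₂⟩ := cone_amplitude h₁ h₂ g hg q δ hT
    have k₁' : GE C a := k₁.mono (by omega)
    obtain ⟨β, hβi, hβ⟩ := hmid hT k₁' k₂
    refine ⟨β, hβi, fun C' l₁ l₂ f => ?_⟩
    obtain ⟨N₃, g₃, hg₃, -, -, hkill⟩ := exists_negative_kill hneg h₂ (le_biprod k₂ l₂)
      (biprod.lift q f) (0 : A)
    obtain ⟨C₃, q₃, δ₃, hT₃⟩ := distinguished_cocone_triangle g₃
    obtain ⟨m₁, m₂⟩ := cone_amplitude h₁ h₂ g₃ hg₃ q₃ δ₃ hT₃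
    obtain ⟨β₃, -, hβ₃⟩ := hmid hT₃ (m₁.mono (by omega)) m₂
    obtain ⟨(r : C₃ ⟶ C ⊞ C'), (hr : biprod.lift q f = q₃ ≫ r)⟩ :=
      Triangle.yoneda_exact₂ _ hT₃ (biprod.lift q f) hkill
    have hcomp : ∀ (M : DB A) (t₁ : GE M a) (t₂ : LEb M (b - 1)) (s : C₃ ⟶ M),
        F.map (q₃ ≫ s) ≫ W.app M t₁ t₂ = β₃ ≫ F'.map (q₃ ≫ s) := by
      intro M t₁ t₂ s
      rw [F.map_comp, F'.map_comp, Category.assoc, W.nat C₃ M (m₁.mono (by omega)) m₂ t₁ t₂ s,
        reassoc_of% hβ₃]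
    have hq : q₃ ≫ r ≫ biprod.fst = q := by rw [← Category.assoc, ← hr, biprod.lift_fst]
    have hf : q₃ ≫ r ≫ biprod.snd = f := by rw [← Category.assoc, ← hr, biprod.lift_snd]
    have hββ : β = β₃ := by
      refine sub_eq_zero.mp (eq_zero_of_negative hFF' h₂ hT hN _ ?_)
      rw [Preadditive.sub_comp, ← hβ, ← hq, hcomp, sub_self]
    rw [hββ, ← hf, hcomp]
  choose φ hφi hφ using hex
  refine ⟨{ app := φ, isIso := hφi, nat := ?_, single := ?_ }⟩
  · intro K L h₁ h₂ h₁' h₂' f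
    obtain ⟨N, g, hg, -, hN, -⟩ := exists_negative_kill hneg h₂'
      (K' := (sB A (b - 1)).obj (0 : A)) (sB_le _ _) 0 ((H A b).obj K)
    obtain ⟨C, q, δ, hT⟩ := distinguished_cocone_triangle g
    obtain ⟨k₁, k₂⟩ := cone_amplitude h₁' h₂' g hg q δ hT
    refine sub_eq_zero.mp (eq_zero_of_negative hFF' h₂ hT hN _ ?_)
    rw [Preadditive.sub_comp, Category.assoc, ← hφ L h₁' h₂' C (k₁.mono (by omega)) k₂ q,
      Category.assoc, ← F'.map_comp, ← hφ K h₁ h₂ C (k₁.mono (by omega)) k₂ (f ≫ q), F.map_comp,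
      Category.assoc, sub_self]
  · intro n X h₁ h₂ hn hn'
    rcases hn'.eq_or_lt with rfl | hlt
    · obtain ⟨N, g, hg, hN, -, -⟩ := exists_negative_kill hneg h₂
        (K' := (sB A (n - 1)).obj (0 : A)) (sB_le _ _) 0 (0 : A)
      obtain ⟨C, q, δ, hT⟩ := distinguished_cocone_triangle g
      obtain ⟨k₁, k₂⟩ := cone_amplitude (sB_ge n X) h₂ g hg q δ hT
      obtain ⟨M, ⟨e⟩⟩ := exists_iso_sB (n := n - 1) (k₁.mono (by omega)) k₂
      refine sub_eq_zero.mp (eq_zero_of_negative hFF' h₂ hT hN _ ?_)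
      rw [Preadditive.sub_comp, ← hφ _ h₁ h₂ C (k₁.mono (by omega)) k₂ q, sub_eq_zero]
      rw [← cancel_mono (F'.map e.hom), Category.assoc, Category.assoc,
        ← W.nat C _ (k₁.mono (by omega)) k₂ ((sB_ge _ _).mono (by omega)) (sB_le _ _) e.hom,
        W.single (n - 1) M _ _ (by omega) le_rfl, ← F.map_comp_assoc, ← F'.map_comp]
      exact hcompat (q ≫ e.hom)
    · have := hφ _ h₁ h₂ ((sB A n).obj X) ((sB_ge n X).mono hn) ((sB_le n X).mono (by omega)) (𝟙 _)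
      rw [W.single n X _ _ hn (by omega)] at this
      simpa using this.symm

include hFF' hneg hθ in
theorem exists_win (d : ℕ) (a : ℤ) : Nonempty (Win θ a (a + d)) := by
  induction d with
  | zero =>
    rw [show a + ((0 : ℕ) : ℤ) = a by simp]
    exact ⟨base θ a⟩
  | succ d ih =>
    obtain ⟨W⟩ := ih
    refine exists_extend hFF' hneg hθ (b := a + (d + 1 : ℕ)) (by omega) ?_
    rw [show a + ((d + 1 : ℕ) : ℤ) - 1 = a + d by omega]
    exact W

include hFF' hneg hθ in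
/-- The natural isomorphism. -/
theorem nonempty_iso : Nonempty (F ≅ F') := by
  let W : ∀ (a : ℤ) (d : ℕ), Win θ a (a + d) := fun a d => (exists_win hFF' hneg hθ d a).some
  choose lo hi hlo hhi using fun K : DB A => exists_amplitude K
  let R : ∀ (a : ℤ) (d : ℕ) (a' : ℤ) (d' : ℕ), a' ≤ a → a + d ≤ a' + d' →
      Win θ a (a + d) := fun a d a' d' h h' =>
    { app := fun K h₁ h₂ => (W a' d').app K (h₁.mono h) (h₂.mono h')
      isIso := fun _ _ _ => (W a' d').isIso _ _ _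
      nat := fun _ _ _ _ _ _ f => (W a' d').nat _ _ _ _ _ _ f
      single := fun n X _ _ hn hn' => (W a' d').single n X _ _ (by omega) (by omega) }
  let φ : ∀ K : DB A, F.obj K ⟶ F'.obj K := fun K =>
    (W (lo K) (hi K - lo K).toNat).app K (hlo K) ((hhi K).mono (by omega))
  have hbig : ∀ (K : DB A) (a : ℤ) (d : ℕ) (h : a ≤ lo K) (h' : lo K + (hi K - lo K).toNat ≤ a + d),
      φ K = (W a d).app K ((hlo K).mono h) ((hhi K).mono (by omega)) := fun K a d h h' =>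
    unique hFF' hneg _ _ (W (lo K) (hi K - lo K).toNat) (R _ _ a d h h') K _ _ (hlo K)
      ((hhi K).mono (by omega))
  have : ∀ K, IsIso (φ K) := fun K => (W _ _).isIso _ _ _
  refine ⟨NatIso.ofComponents (fun K => asIso (φ K)) fun {K L} f => ?_⟩
  obtain ⟨a, ha⟩ : ∃ a, a = min (lo K) (lo L) := ⟨_, rfl⟩
  obtain ⟨d, hd⟩ : ∃ d : ℕ, d = (max (lo K + (hi K - lo K).toNat) (lo L + (hi L - lo L).toNat) - a).toNat :=
    ⟨_, rfl⟩
  show F.map f ≫ φ L = φ K ≫ F'.map f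
  rw [hbig K a d (by omega) (by omega), hbig L a d (by omega) (by omega)]
  exact (W a d).nat _ _ _ _ _ _ f

end Groth.Agent.DBSib.Natural
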