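import Groth.Agent.DBSib.Compat

set_option autoImplicit false
universe w v u v' u'
open CategoryTheory CategoryTheory.Limits CategoryTheory.Pretriangulated
open Groth.Agent.DBSib.Basic Groth.Agent.DBSib.Compat

namespace Groth.Agent.DBSib.Sibling

variable {A : Type u} [Category.{v} A] [Abelian A] [HasDerivedCategory.{w} A]
  {D : Type u'} [Category.{v'} D] [Preadditive D] [HasZeroObject D] [HasShift D ℤ]
  [∀ n : ℤ, (shiftFunctor D n).Additive] [Pretriangulated D]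
  {F F' : DB A ⥤ D} [F.CommShift ℤ] [F'.CommShift ℤ] [F.IsTriangulated] [F'.IsTriangulated]

/-- Extending a comparison over a triangle. -/
theorem exists_middle {n m : ℤ} (h : 1 + m = n) (τ : sB A n ⋙ F ≅ sB A n ⋙ F') {E : A} {K C : DB A}
    {g : (sB A n).obj E ⟶ K} {q : K ⟶ C} {δ : C ⟶ ((sB A n).obj E)⟦(1 : ℤ)⟧}
    (hT : Triangle.mk g q δ ∈ distTriang (DB A)) (γ : F.obj C ⟶ F'.obj C)
    (hsq : F.map (δ ≫ (shiftIso 1 m n h).hom.app E) ≫ (shiftDown h τ).hom.app E =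
      γ ≫ F'.map (δ ≫ (shiftIso 1 m n h).hom.app E)) :
    ∃ β : F.obj K ⟶ F'.obj K, F.map g ≫ β = τ.hom.app E ≫ F'.map g ∧
      F.map q ≫ γ = β ≫ F'.map q ∧ (IsIso γ → IsIso β) := by
  have hsq' := (shiftDown_square h τ δ γ).mpr hsq
  obtain ⟨(β : F.obj K ⟶ F'.obj K), hβ₁, hβ₂⟩ := complete_distinguished_triangle_morphism₂ _ _
    (F.map_distinguished _ hT) (F'.map_distinguished _ hT) (τ.hom.app E) γ hsq'
  change F.map g ≫ β = τ.hom.app E ≫ F'.map g at hβ₁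
  change F.map q ≫ γ = β ≫ F'.map q at hβ₂
  refine ⟨β, hβ₁, hβ₂, fun hγ => ?_⟩
  exact isIso₂_of_isIso₁₃
    (Triangle.homMk (F.mapTriangle.obj (Triangle.mk g q δ)) (F'.mapTriangle.obj (Triangle.mk g q δ))
      (τ.hom.app E) β γ hβ₁ hβ₂ hsq')
    (F.map_distinguished _ hT) (F'.map_distinguished _ hT)
    (inferInstanceAs (IsIso (τ.app E).hom)) hγ

/-- A bijectivity statement for one functor transported through isomorphisms of the ends. -/
theorem hom_eq_zero_of_iso {X Y : DB A} (h : ∀ f : F.obj X ⟶ F.obj Y, f = 0)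
    (e : F.obj Y ≅ F'.obj Y) (f : F.obj X ⟶ F'.obj Y) : f = 0 := by
  rw [← cancel_mono e.inv, zero_comp]
  exact h _

/-- The hypothesis on negative degrees, in terms of single objects. -/
theorem single_vanishing (h2 : ∀ (X Y : A) (q : ℤ), q < 0 →
      ∀ f : F.obj ((sB A 0).obj X) ⟶ (F.obj ((sB A 0).obj Y))⟦q⟧, f = 0)
    (i j : ℤ) (X Y : A) (hij : i < j) (f : F.obj ((sB A i).obj X) ⟶ F.obj ((sB A j).obj Y)) : f = 0 := by
  apply (shiftFunctor D i).map_injective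
  rw [Functor.map_zero]
  let a : F.obj ((sB A 0).obj X) ≅ (F.obj ((sB A i).obj X))⟦i⟧ :=
    F.mapIso ((shiftIso i 0 i (add_zero i)).app X).symm ≪≫ (F.commShiftIso i).app _
  let e : ((sB A j).obj Y)⟦i⟧ ≅ ((sB A 0).obj Y)⟦i - j⟧ :=
    (shiftIso i (j - i) j (by omega)).app Y ≪≫ ((shiftIso (i - j) (j - i) 0 (by omega)).app Y).symm
  let b : (F.obj ((sB A j).obj Y))⟦i⟧ ≅ (F.obj ((sB A 0).obj Y))⟦i - j⟧ :=
    ((F.commShiftIso i).app _).symm ≪≫ F.mapIso e ≪≫ (F.commShiftIso (i - j)).app _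
  rw [← cancel_epi a.hom, ← cancel_mono b.hom, comp_zero, zero_comp]
  exact h2 X Y (i - j) (by omega) _

/-- Functors agreeing on `A`, with no negative morphisms, agree on all objects. -/
theorem nonempty_iso_obj (θ₀ : sB A 0 ⋙ F ≅ sB A 0 ⋙ F')
    (hF : ∀ (i j : ℤ) (X Y : A), i < j →
      ∀ f : F.obj ((sB A i).obj X) ⟶ F.obj ((sB A j).obj Y), f = 0)
    (K : DB A) : Nonempty (F.obj K ≅ F'.obj K) := by
  suffices key : ∀ (d : ℕ) (n : ℤ) (τ : sB A n ⋙ F ≅ sB A n ⋙ F') (K : DB A), GE K (n - d) →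
      Groth.Agent.DBSib.Basic.LE K n → ∃ β : F.obj K ⟶ F'.obj K, IsIso β ∧
        ∀ (N : A) (q : K ⟶ (sB A n).obj N), F.map q ≫ τ.hom.app N = β ≫ F'.map q by
    obtain ⟨a, b, ha, hb⟩ := exists_amplitude K
    obtain ⟨θ, -, -⟩ := exists_family θ₀
    obtain ⟨β, hβ, -⟩ := key (b - a).toNat b (θ b) K (ha.mono (by omega)) hb
    exact ⟨asIso β⟩
  intro d
  induction d with
  | zero =>
    intro n τ K h₁ h₂
    obtain ⟨X, ⟨e⟩⟩ := exists_iso_sB (h₁.mono (by omega)) h₂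
    refine ⟨(F.mapIso e ≪≫ τ.app X ≪≫ F'.mapIso e.symm).hom, inferInstance, fun N q => ?_⟩
    obtain ⟨q₀, hq₀⟩ := (sB A n).map_surjective (e.inv ≫ q)
    have hn := τ.hom.naturality q₀
    dsimp at hn
    rw [hq₀] at hn
    simp only [Iso.trans_hom, Functor.mapIso_hom, Iso.app_hom, Iso.symm_hom, Category.assoc,
      ← F'.map_comp]
    rw [← hn, ← F.map_comp_assoc, Iso.hom_inv_id_assoc]
  | succ d ih =>
    intro n τ K h₁ h₂
    obtain ⟨E, g, hg⟩ := exists_epi_H h₂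
    obtain ⟨C, q, δ, hT⟩ := distinguished_cocone_triangle g
    obtain ⟨k₁, k₂⟩ := cone_amplitude h₁ h₂ g hg q δ hT
    obtain ⟨γ, hγi, hγ⟩ := ih (n - 1) (shiftDown (m := n - 1) (by omega) τ) C
      (k₁.mono (by omega)) k₂
    obtain ⟨β, hβ₁, hβ₂, hβi⟩ := exists_middle (by omega) τ hT γ (hγ _ _)
    refine ⟨β, hβi hγi, fun N r => ?_⟩
    obtain ⟨s, hs⟩ := (sB A n).map_surjective (g ≫ r)
    have h0 : F.map g ≫ (((F.map r ≫ τ.hom.app N) : F.obj K ⟶ F'.obj ((sB A n).obj N)) - β ≫ F'.map r) = 0 := by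
      rw [Preadditive.comp_sub, reassoc_of% hβ₁, ← F.map_comp_assoc, ← F'.map_comp, ← hs,
        sub_eq_zero]
      exact τ.hom.naturality s
    obtain ⟨u, hu⟩ := Triangle.yoneda_exact₂ _ (F.map_distinguished _ hT) _ h0
    have hu0 : u = 0 := hom_zero_of_singles (n - 1)
      (fun i X hi => hom_eq_zero_of_iso (hF i n X N (by omega)) (τ.app N)) k₂ u
    rw [hu0] at hu
    erw [comp_zero] at hu
    exact sub_eq_zero.mp hu

end Groth.Agent.DBSib.Sibling
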